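import Cfsg.Agent.H516.OddFrame
import Cfsg.Agent.S1311
import Cfsg.Agent.OddHalf.Soft
import Cfsg.Agent.H226.Setup
import Cfsg.Agent.H677.OrdSporIso
import Cfsg.Agent.H633.CentSporB
import Cfsg.Agent.H489.OutSpor
import Cfsg.Agent.H14.KnownSimple
import Cfsg.Agent.CTwoTab.He
import Cfsg.Agent.H283.SporLie_m3
import Cfsg.Agent.ResEven.Congr_m3
import Cfsg.Agent.Prune
set_option linter.all false
prune_inst 0x7f00000000000000000000000000000000000000000000000000000000000000000000000000000000000000000000000000000000000000000000000000000000000000000000000000000000000000003fffffffffffffffffffffffffffbeffbdffffffff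
open scoped Cfsg.Agent.FastGrp

/-!
# The frame facts (`Good`) for the sporadic groups and the Tits group
-/

set_option autoImplicit false

namespace Cfsg.Agent.H516

open Subgroup Cfsg

universe u

variable {L : Type u} [Group L]

theorem simple_of_spor (h : IsSporadicGroup L ∨ Lie.IsoTits L) : IsSimpleGroup L := by
  rcases h with h | h
  · exact H14.KnownSimple.sporadic h
  · exact H226.Setup.simple_tits h

theorem card_facts (h : IsSporadicGroup L ∨ Lie.IsoTits L) : 4 ∣ Nat.card L ∧ Nat.card L ≠ 20160 := by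
  have h1 := H677.OrdSporIso.card_mem h
  have h2 : ∀ N ∈ H677.OrdAltSpor.sporOrders, 4 ∣ N ∧ N ≠ 20160 := by decide +kernel
  exact h2 _ h1

theorem not_comm_of_spor [Finite L] (h : IsSporadicGroup L ∨ Lie.IsoTits L) : ¬ IsMulCommutative L := by
  intro hc
  have hs := simple_of_spor h
  have h4 := (card_facts h).1
  have hp : (Nat.card L).Prime := by
    let _ : CommGroup L := { mul_comm := fun a b => hc.is_comm.comm a b }
    exact IsSimpleGroup.prime_card
  obtain ⟨k, hk⟩ := h4
  rw [hk, show 4 * k = 2 * (2 * k) by ring] at hp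
  rcases Nat.prime_mul_iff.1 hp with ⟨-, h2⟩ | ⟨-, h2⟩ <;> omega

theorem core_of_spor [Finite L] (h : IsSporadicGroup L ∨ Lie.IsoTits L) (t : L) (ht : orderOf t = 2) :
    centralizerPPrimeCore 2 t = ⊥ := by
  have hs := simple_of_spor h
  have hna := not_comm_of_spor h
  have htop : generalizedFittingSubgroup L = ⊤ := OddHalf.Soft.fstar_eq_top hna
  by_contra hcore
  let e : ↥(generalizedFittingSubgroup L) ≃* L := (MulEquiv.subgroupCongr htop).trans Subgroup.topEquiv
  have hs' : IsSimpleGroup ↥(generalizedFittingSubgroup L) := by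
    have : Nontrivial ↥(generalizedFittingSubgroup L) := e.toEquiv.nontrivial
    exact IsSimpleGroup.isSimpleGroup_of_surjective e.symm.toMonoidHom e.symm.surjective
  have hna' : ¬ IsMulCommutative ↥(generalizedFittingSubgroup L) := by
    intro hc
    apply hna
    refine ⟨⟨fun a b => ?_⟩⟩
    apply e.symm.injective
    rw [map_mul, map_mul, hc.is_comm.comm]
  have h' : IsSporadicGroup ↥(generalizedFittingSubgroup L) ∨ Lie.IsoTits ↥(generalizedFittingSubgroup L) := by
    rcases h with h | h
    · exact Or.inl (OddHalf.Known.isSporadic_congr e.symm h)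
    · exact Or.inr (OddHalf.Known.isoTits_congr e.symm h)
  rcases Cfsg.Agent.S1311.result hs' hna' t ht hcore with ⟨p, hp, hp2, hl⟩ | ⟨n, hn, hn7, ⟨e'⟩⟩ | ⟨F, _, _, hF, ⟨e'⟩⟩ | he
  · exact H283.SporLie.not_lie hp hl h'
  · refine H677.OrdSporIso.alt_spor h (n := n) ?_
    rw [← Nat.card_congr e.toEquiv, Nat.card_congr e'.toEquiv]
    have : Nontrivial (Fin n) := Fin.nontrivial_iff_two_le.2 (by omega)
    rw [two_mul_nat_card_alternatingGroup, Nat.card_eq_fintype_card, Fintype.card_perm, Fintype.card_fin]
  · have hf2 : Fact (Nat.Prime 2) := ⟨Nat.prime_two⟩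
    have hcp : CharP F 2 := charP_of_card_eq_prime_pow (f := 2) (by rw [hF]; norm_num)
    exact H283.SporLie.not_lie Nat.prime_two
      (Or.inl ⟨F, inferInstance, inferInstance, hcp, 3, by norm_num, fun h => by omega, ⟨e'⟩⟩) h'
  · obtain ⟨e'⟩ := he
    have h1 : Spor.IsoHe L := ⟨e.symm.trans e'⟩
    exact hcore ((CTwoTab.He.compC2_of_iso h1).bal t ht)

theorem oi_of_out [Finite L] (h : Nat.card (Out L) ≤ 2) (a : MulAut L) (ha : Odd (orderOf a)) : ∃ g : L, a = MulAut.conj g := by
  have h2 : orderOf (QuotientGroup.mk' (Inn L) a) ∣ orderOf a := orderOf_map_dvd _ a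
  have h3 : orderOf (QuotientGroup.mk' (Inn L) a) ≤ 2 :=
    (Nat.le_of_dvd Nat.card_pos (orderOf_dvd_natCard _)).trans h
  have h4 : orderOf (QuotientGroup.mk' (Inn L) a) = 1 := by
    have h5 : 0 < orderOf (QuotientGroup.mk' (Inn L) a) := orderOf_pos _
    have h6 : orderOf (QuotientGroup.mk' (Inn L) a) ≠ 2 := by
      intro h7
      rw [h7] at h2
      exact (Nat.not_even_iff_odd.2 ha) (even_iff_two_dvd.2 h2)
    omega
  have h5 := orderOf_eq_one_iff.1 h4
  have h6 : a ∈ Inn L := (QuotientGroup.eq_one_iff a).1 h5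
  obtain ⟨g, hg⟩ := h6
  exact ⟨g, hg.symm⟩

/-- **The frame facts for the sporadic groups and the Tits group.** -/
theorem good_of_spor [Finite L] (h : IsSporadicGroup L ∨ Lie.IsoTits L) : Good L where
  simple := simple_of_spor h
  center := by
    have hs := simple_of_spor h
    exact OddHalf.Soft.center_eq_bot (not_comm_of_spor h)
  even := even_iff_two_dvd.2 ((show (2 : ℕ) ∣ 4 by norm_num).trans (card_facts h).1)
  core := core_of_spor h
  ct := by
    rcases h with h | h
    · exact H633.CentTwo.spor h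
    · exact H633.CentTwo.tits h
  oi := by
    rcases h with h | h
    · exact oi_of_out (H489.card_out_sporadic h)
    · exact oi_of_out (H489.card_out_tits h)

end Cfsg.Agent.H516
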