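import Cfsg.Agent.H472.ComStrongB
import Cfsg.Agent.H705.ComAll_mg_m3
import Cfsg.Agent.S0000
import Cfsg.Agent.S1311
import Cfsg.Agent.S1938
import Cfsg.Agent.H516.OddFrame
import Cfsg.Agent.H516.TwoFrame
import Cfsg.Agent.H96.Wf.M
import Cfsg.Agent.SporadicStructure.OddProducts
import Cfsg.Agent.H516.GoodSpor
import Cfsg.Agent.S2085
import Cfsg.Agent.H516.RowSpor
import Cfsg.Agent.H516.TwoSpor
import Cfsg.Agent.FastGrp
import Cfsg.Agent.Prune
set_option linter.all false
prune_inst 0x7ffdfefbbff8bddeffff7e7ffffddffdf9fcffffefdff9fbfffdfbffffff6b6febf5fbaf6fefdafeeef7e23490f87b53fdffdeffe36bfc7ffffd5ff47fffff9fffffbf2951d6983e0ffc6ffffbfbffafffffffffffffffffffffffffffffffffffffffffffff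
open scoped Cfsg.Agent.FastGrp

-- part: H472/NoMinAsm
section
/-!
# S4094, S3842: assembly (helper472)

`noMin` : there is no minimal counterexample to S4094, given the classification, the `Z*_p`-theorem and the rows.
-/

set_option autoImplicit false

namespace Cfsg.Agent.H472.ComRed

open Subgroup Cfsg
open Cfsg.Agent.H472.ComAut
open Cfsg.Agent.H705

universe u

/-- the rows for the sporadic groups and the Tits group -/
def RowSpec : Prop := ∀ (H : Type u) [Group H] [Finite H] (S : Subgroup H) (y : H) (p : ℕ), p.Prime → MinCtx p S y →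
  p ∣ orderOf y → (IsSporadicGroup S ∨ Lie.IsoTits S) → False

/-- the rows for the groups of Lie type -/
def RowLieAll : Prop := ∀ (S : Type u) [Group S] [Finite S] [IsSimpleGroup S] (l : ℕ), l.Prime →
  IsLieTypeChar l S → ¬ Group.IsSolvable S → ∀ p : ℕ, p.Prime → Com p S

/-- **No minimal counterexample to S4094.** -/
theorem noMin (hZ : ZStarThm.{u})
    (hK : ∀ (S : Type u) [Group S] [Finite S] [IsSimpleGroup S], IsKnownSimple' S) (hlie : RowLieAll.{u})
    (hspec : RowSpec.{u}) {p : ℕ} [hp : Fact p.Prime] : NoMin.{u} p := by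
  intro H _ _ S y h
  have hsim := h.simple
  have hsp := hspec H S y p hp.out h (h.dvd_orderOf hZ)
  rcases OddHalf.Known.classify' h.nonab (hK S) with h1 | h1 | h1 | h1
  · obtain ⟨n, hn, ⟨e⟩⟩ := h1
    by_cases h6 : n = 6
    · subst h6
      exact h.false_of_com (hlie S 3 Nat.prime_three (alt_six_lie e) (not_isSolvable_of h.nonab) p hp.out)
    · exact h.false_of_com ((ComAlt.com hn h6 hp.out).of_equiv e)
  · obtain ⟨l, hl, hL⟩ := h1
    exact h.false_of_com (hlie S l hl hL (not_isSolvable_of h.nonab) p hp.out)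
  · exact hsp (Or.inr h1)
  · exact hsp (Or.inl h1)

end Cfsg.Agent.H472.ComRed
end

-- part: H472/Fin
section
/-!
# The inputs of S4096, S4094 and S3842 (helper472)
-/

set_option autoImplicit false

namespace Cfsg.Agent.H472.Fin

open Cfsg
open Cfsg.Agent.H472.ComRed
open Cfsg.Agent.H705

universe u

theorem ugt : UGT.{u} := fun _ _ _ hs hna t ht hcore => Cfsg.Agent.S1311.result hs hna t ht hcore

theorem known : ∀ (S : Type u) [Group S] [Finite S] [IsSimpleGroup S], IsKnownSimple' S :=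
  fun _ _ _ _ => Cfsg.Agent.S0000.result

theorem zstar : ZStarThm.{u} := fun _ _ _ _ _ T e he hiso => Cfsg.Agent.S1938.result T e he hiso

theorem rowLieAll : RowLieAll.{u} := fun _ _ _ _ l hl hL hns _ hp => by
  have : Fact l.Prime := ⟨hl⟩
  exact Cfsg.Agent.H705.lie hL hns hp

theorem rowLie : RowLie.{u} := fun S _ _ _ l hl hL hns p hp _ => rowLieAll S l hl hL hns p hp

end Cfsg.Agent.H472.Fin
end

-- part: H516/MinOdd
section
/-!
# The odd frame in a minimal counterexample to S4094 (helper516)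

* `odd_of_bad` : `Bad.odd` without the induction hypothesis;
* `inv_of_wk` : `x` centralizes the `x`-invariant proper subgroups `H ≤ N` with `O_p(H) = 1`;
* `odd_of_wk` : **`|C_N(x)|` is odd** for `p` odd, `N` a sporadic group;
* `bad_of_wk`, `ne_of_wk` : `nAut` is bad and not 1.
-/

set_option autoImplicit false

namespace Cfsg.Agent.H516

open Subgroup Cfsg Cfsg.Agent.SignalizersComponents.Components
open scoped commutatorElement Pointwise

universe u v

section

variable {L : Type u} [Group L] {p : ℕ} {a : MulAut L}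

/-- **A bad automorphism has a fixed subgroup of odd order**, if it centralizes the centralizers of its fixed
involutions. -/
theorem odd_of_bad [Finite L] (hL : Good L) (hp : p.Prime) (hp2 : p ≠ 2) (h : Bad p a) (hne : a ≠ 1)
    (hcl : ∀ t : L, orderOf t = 2 → a t = t → centralizer ({t} : Set L) ≤ fixedSubgroup a) :
    Odd (Nat.card (fixedSubgroup a)) := by
  have hf2 : Fact (Nat.Prime 2) := ⟨Nat.prime_two⟩
  have hs := hL.simple
  have hc := hL.center
  have hp2' : ¬ p ∣ 2 := fun h => hp2 ((Nat.prime_dvd_prime_iff_eq hp Nat.prime_two).1 h)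
  by_contra hodd
  rw [Nat.not_odd_iff_even] at hodd
  set C := fixedSubgroup a with hC
  obtain ⟨t, ht⟩ := exists_prime_orderOf_dvd_card' (G := C) 2 hodd.two_dvd
  have ht' : orderOf (t : L) = 2 := by rw [Subgroup.orderOf_coe]; exact ht
  -- a Sylow 2-subgroup inside `C`
  have hCL : ∀ s : L, orderOf s = 2 → s ∈ C → centralizer ({s} : Set L) ≤ C := fun s hs hsC =>
    hcl s hs hsC
  obtain ⟨T, hT⟩ := (isPGroup_zpowers (p := 2) (n := 1) (x := (t : L))
    (by rw [pow_one, ← ht']; exact pow_orderOf_eq_one _)).exists_le_sylow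
  have htT : (t : L) ∈ T := hT (mem_zpowers _)
  have hTC : (T : Subgroup L) ≤ C := by
    have hnt : Nontrivial (T : Subgroup L) := by
      refine ⟨⟨⟨t, htT⟩, 1, fun h1 => ?_⟩⟩
      have h2 : (t : L) = 1 := congrArg Subtype.val h1
      rw [h2, orderOf_one] at ht'
      norm_num at ht'
    have hz := T.2.center_nontrivial
    obtain ⟨z, hz1⟩ := exists_ne (1 : Subgroup.center (T : Subgroup L))
    have hzp : IsPGroup 2 (Subgroup.center (T : Subgroup L)) := T.2.to_subgroup _
    obtain ⟨w, hw⟩ : ∃ w : Subgroup.center (T : Subgroup L), orderOf w = 2 := by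
      have h2 : 2 ∣ Nat.card (Subgroup.center (T : Subgroup L)) := by
        obtain ⟨n, hn⟩ := IsPGroup.iff_card.1 hzp
        rw [hn]
        refine dvd_pow_self 2 fun h0 => ?_
        rw [h0, pow_zero] at hn
        have := (Nat.card_eq_one_iff_unique.1 hn).1
        exact hz1 (Subsingleton.elim _ _)
      exact exists_prime_orderOf_dvd_card' 2 h2
    have hw' : orderOf ((w : (T : Subgroup L)) : L) = 2 := by
      rw [Subgroup.orderOf_coe, Subgroup.orderOf_coe]; exact hw
    have hwt : ((w : (T : Subgroup L)) : L) ∈ C := by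
      refine hCL t ht' t.2 ?_
      rw [mem_centralizer_singleton_iff]
      have h3 := mem_center_iff.1 w.2 ⟨t, htT⟩
      exact (congrArg (Subtype.val) h3).symm
    refine le_trans ?_ (hCL _ hw' hwt)
    intro q hq
    rw [mem_centralizer_singleton_iff]
    have h3 := mem_center_iff.1 w.2 ⟨q, hq⟩
    exact congrArg (Subtype.val) h3
  -- the odd part of `a` is inner and centralizes `T`
  obtain ⟨n, m, hm, hn⟩ := Nat.exists_eq_pow_mul_and_not_dvd (orderOf_pos a).ne' 2 (by norm_num)
  have hmodd : Odd m := by rw [← Nat.not_even_iff_odd, even_iff_two_dvd]; exact hm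
  have ho : orderOf (a ^ 2 ^ n) = m := by
    rw [orderOf_pow_of_dvd (pow_ne_zero _ (by norm_num)) (by rw [hn]; exact dvd_mul_right _ _), hn,
      Nat.mul_div_cancel_left _ (pow_pos (by norm_num) _)]
  obtain ⟨g, hg⟩ := hL.oi (a ^ 2 ^ n) (by rw [ho]; exact hmodd)
  have hgT : g ∈ centralizer ((T : Subgroup L) : Set L) := by
    rw [mem_centralizer_iff]
    intro q hq
    have h1 : zpowers a ≤ MulAction.stabilizer (MulAut L) q := by
      rw [zpowers_le]
      exact hTC hq
    have h2 : MulAut.conj g q = q := by rw [← hg]; exact h1 (pow_mem (mem_zpowers a) _)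
    rw [MulAut.conj_apply, mul_inv_eq_iff_eq_mul] at h2
    exact h2.symm
  have hg1 : m = 1 := by
    obtain ⟨k, hk⟩ := hL.ct T ⟨g, hgT⟩
    have hk' : g ^ 2 ^ k = 1 := congrArg (Subtype.val) hk
    have h1 : orderOf g = m := by rw [← ho, hg, orderOf_injective _ (conj_injective hc)]
    have h2 := orderOf_dvd_of_pow_eq_one hk'
    rw [h1] at h2
    exact Nat.eq_one_of_dvd_coprimes ((Nat.coprime_two_left.2 hmodd).pow_left k) h2 dvd_rfl
  rw [hg1, mul_one] at hn
  rcases n with _ | n
  · rw [pow_zero, orderOf_eq_one_iff] at hn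
    exact hne hn
  · exact h.false_of_two hc hL.even hp2' hp hn


end

section wk

open Cfsg.Agent.H472.ComRed Cfsg.Agent.H516.Zip
open Cfsg.Agent.Lib.Cores

variable {G : Type u} [Group G] [Finite G] {p : ℕ} {N : Subgroup G} {x : G}

theorem wk_mem_normalizer (h : Wk p N x) : x ∈ normalizer (N : Set G) := by
  have := h.normal
  rw [normalizer_eq_top_iff.2 this]
  trivial

theorem ne_of_wk (h : Wk p N x) : nAut (wk_mem_normalizer h) ≠ 1 := by
  intro h1
  have h2 := nAut_eq_one (wk_mem_normalizer h) h1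
  rw [h.cent, mem_bot] at h2
  exact h.ne h2

theorem bad_of_wk (h : Wk p N x) : Bad p (nAut (wk_mem_normalizer h)) := by
  intro s
  have h1 := nAut_cm (wk_mem_normalizer h) s
  rcases h.bad s with h2 | h2
  · left
    apply Subtype.ext
    rw [h1, h2]
    rfl
  · right
    rw [← h1, Subgroup.orderOf_coe] at h2
    exact h2

/-- **`x` centralizes the `x`-invariant proper subgroups `H` of `N` with `O_p(H) = 1`.** -/
theorem inv_of_wk (h : Wk p N x) {H : Subgroup N} (hH : H ≠ ⊤)
    (hm : H.map (nAut (wk_mem_normalizer h)).toMonoidHom = H) (hO : pCore p H = ⊥) :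
    H ≤ fixedSubgroup (nAut (wk_mem_normalizer h)) := by
  have hN := h.normal
  set a := nAut (wk_mem_normalizer h) with ha
  intro s hs
  rw [mem_fixed]
  set H' := H.map N.subtype with hH'
  by_cases hbot : H = ⊥
  · rw [hbot, mem_bot] at hs
    rw [hs, map_one]
  have hx : x⁻¹ ∈ normalizer (H' : Set G) := by
    apply mem_normalizer_of_sub
    rintro _ ⟨v, hv, rfl⟩
    refine ⟨a v, ?_, ?_⟩
    · rw [← hm]
      exact ⟨v, hv, rfl⟩
    · show ((a v : N) : G) = x⁻¹ * v * x⁻¹⁻¹
      rw [nAut_coe, inv_inv]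
  have hx' : x ∈ normalizer (H' : Set G) := by
    have := inv_mem hx
    rwa [inv_inv] at this
  have hD : normalizer (H' : Set G) ≠ ⊤ := by
    intro h3
    have h4 : H'.Normal := normalizer_eq_top_iff.1 h3
    have h5 : H.Normal := by
      have h6 : H = H'.subgroupOf N := by
        rw [hH']
        exact (Subgroup.comap_map_eq_self_of_injective N.subtype_injective H).symm
      rw [h6]
      infer_instance
    rcases h.simple.eq_bot_or_eq_top_of_normal H h5 with h6 | h6
    · exact hbot h6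
    · exact hH h6
  have hsH' : (s : G) ∈ H' := ⟨s, hs, rfl⟩
  have h1 : cm x s ∈ oc p (normalizer (H' : Set G)) := h.ind _ hx' hD s (le_normalizer hsH')
  have h2 : ((a s)⁻¹ * s : N) ∈ H := by
    refine mul_mem (inv_mem ?_) hs
    rw [← hm]
    exact ⟨s, hs, rfl⟩
  have h3 := nAut_cm (wk_mem_normalizer h) s
  -- the `p`-core of the normalizer meets `H'` trivially
  set R : Subgroup H := ((oc p (normalizer (H' : Set G))).subgroupOf N).subgroupOf H with hR
  have hRn : R.Normal := by
    refine ⟨fun r hr k => ?_⟩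
    rw [hR, mem_subgroupOf, mem_subgroupOf] at hr ⊢
    have h4 : ((k : N) : G) ∈ normalizer (H' : Set G) := le_normalizer ⟨k, k.2, rfl⟩
    exact oc_conj h4 hr
  have hRp : IsPGroup p R := by
    have h4 := oc_pg (p := p) (normalizer (H' : Set G))
    exact (h4.comap_of_injective N.subtype N.subtype_injective).comap_of_injective H.subtype H.subtype_injective
  have hR1 : R = ⊥ := by
    rw [eq_bot_iff, ← hO]
    exact le_pCore hRn hRp
  have h4 : (⟨(a s)⁻¹ * s, h2⟩ : H) ∈ R := by
    rw [hR, mem_subgroupOf, mem_subgroupOf]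
    show (((a s)⁻¹ * s : N) : G) ∈ oc p (normalizer (H' : Set G))
    rw [h3]
    exact h1
  rw [hR1, mem_bot] at h4
  have h5 : (a s)⁻¹ * s = 1 := congrArg Subtype.val h4
  exact inv_mul_eq_one.1 h5

/-- `C_N(y) ≤ C_N(x)` if `x` commutes with `y ≠ 1` and `O_p(C_N(y)) = 1`. -/
theorem centralizer_le_of_wk (h : Wk p N x) (hc : Subgroup.center N = ⊥) {y : N} (hy1 : y ≠ 1)
    (hy : nAut (wk_mem_normalizer h) y = y) (hO : pCore p ↥(centralizer ({y} : Set N)) = ⊥) :
    centralizer ({y} : Set N) ≤ fixedSubgroup (nAut (wk_mem_normalizer h)) := by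
  refine inv_of_wk h ?_ (map_centralizer hy) hO
  intro h1
  apply hy1
  have h2 : y ∈ Subgroup.center N := by
    rw [mem_center_iff]
    intro g
    have h3 : g ∈ centralizer ({y} : Set N) := by rw [h1]; exact mem_top g
    exact mem_centralizer_singleton_iff.1 h3
  rwa [hc, mem_bot] at h2

/-- **`|C_N(x)|` is odd.** -/
theorem odd_of_wk (h : Wk p N x) (hp : p.Prime) (hp2 : p ≠ 2) (hL : Good N) :
    Odd (Nat.card (fixedSubgroup (nAut (wk_mem_normalizer h)))) := by
  refine odd_of_bad hL hp hp2 (bad_of_wk h) (ne_of_wk h) fun t ht hta => ?_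
  refine centralizer_le_of_wk h hL.center ?_ hta (pCore_eq_bot_of_core hp hp2 (hL.core t ht))
  intro h1
  rw [h1, orderOf_one] at ht
  norm_num at ht

end wk

end Cfsg.Agent.H516
end

-- part: H472/MonOrb
section
/-!
# Isolated involutions with quotient `Suz`: elements central modulo a normal 3-subgroup (helper472, after H345.MOrb)

`exists_inv` : `D` with the data `Dat φ` (`C_D(z) → Suz`, central kernel of order 6), `x₀` of order 3 in the centre,
`3 ^ 21 ∤ |D|`: an element `y` which is central modulo a normal 3-subgroup commutes with an involution.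
-/

set_option autoImplicit false

namespace Cfsg.Agent.H472.MonOrb

open Subgroup Cfsg
open Cfsg.Agent.LThreeBX.Abs (Ker zA)
open Cfsg.Agent.BpSpor.MThree (Dat exists_hom core_le_ker ker_solvable)
open Cfsg.Agent.H345 Cfsg.Agent.H345.MOrb

universe u v

variable {D : Type u} [Group D] [Finite D] {z : D} {X : Type v} [Group X] {φ : ↥(centralizer ({z} : Set D)) →* X}

/-- **Elements which are central modulo a normal 3-subgroup commute with an involution.** -/
theorem exists_inv (h : Dat φ) (h9 : ¬ 9 ∣ Nat.card ↥φ.ker) (hD : ¬ 3 ^ 21 ∣ Nat.card D) {x₀ : D}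
    (hx₀ : orderOf x₀ = 3) (hc : ∀ d, d * x₀ = x₀ * d) {y : D} {P : Subgroup D} [hPn : P.Normal] (hP : IsPGroup 3 P)
    (hyP : ∀ d : D, y⁻¹ * (d * y * d⁻¹) ∈ P) :
    ∃ s : D, s * s = 1 ∧ s ≠ 1 ∧ s * y = y * s := by
  classical
  obtain ⟨e⟩ := h.suz
  have hX : IsSimpleGroup X := h.simple
  have hXc : Nat.card X = 448345497600 := h.card
  have hXf : Finite X := Finite.of_surjective φ h.surj
  have h2F : Fact (Nat.Prime 2) := ⟨Nat.prime_two⟩
  have h3F : Fact (Nat.Prime 3) := ⟨Nat.prime_three⟩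
  have hyr : y ∈ solvableRadical D := by
    have hPr : P ≤ solvableRadical D := by
      have hPs : Group.IsSolvable P := by
        have := hP.isNilpotent
        infer_instance
      exact Cfsg.Agent.H459.Rad.le_rad hPn hPs
    apply Cfsg.Agent.H459.Rad.mem_rad_of_commutator
    intro g
    apply hPr
    have h1 := hyP g⁻¹
    have h2 := hPn.conj_mem _ (P.inv_mem h1) y
    have e : y * (y⁻¹ * (g⁻¹ * y * g⁻¹⁻¹))⁻¹ * y⁻¹ = y * (g⁻¹ * y⁻¹ * g) := by group
    rw [e] at h2
    have h3 := hPn.conj_mem _ (P.inv_mem h2) 1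
    have e' : g⁻¹ * (y * g * y⁻¹) = 1 * (y * (g⁻¹ * y⁻¹ * g))⁻¹ * 1⁻¹ := by group
    rw [e']
    exact h3
  -- elements of even order
  rcases Nat.even_or_odd (orderOf y) with hyev | hyodd
  · refine ⟨y ^ (orderOf y / 2), ?_, ?_, ?_⟩
    · rw [← pow_add, ← two_mul, Nat.mul_div_cancel' (even_iff_two_dvd.1 hyev), pow_orderOf_eq_one]
    · intro h1
      have h2 := orderOf_dvd_of_pow_eq_one h1
      have h3 : 0 < orderOf y := orderOf_pos y
      have h4 := Nat.le_of_dvd (Nat.div_pos (Nat.le_of_dvd h3 (even_iff_two_dvd.1 hyev)) (by norm_num)) h2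
      omega
    · exact ((Commute.refl y).pow_left _).eq
  have hz2 : z * z = 1 := h.z2
  have hz1 : z ≠ 1 := by
    intro h1
    have h2 := h.ord
    rw [h1, orderOf_one] at h2
    exact absurd h2 (by norm_num)
  obtain ⟨N, F, hN, hNo, hsup, hNF, hFφ, hFs, hFk⟩ := exists_hom
    (fun K _ _ hK => Cfsg.Agent.S0205.result hK) h.ord h.iso hX (by rw [hXc]; decide) φ h.surj (ker_solvable h.ker)
  have hx3 : x₀ ^ 3 = 1 := by rw [← hx₀, pow_orderOf_eq_one]
  -- `F y = 1`
  have hFy : F y = 1 := by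
    have h1 := Cfsg.Agent.H459.Rad.map_rad_le hFs hyr
    rw [Cfsg.Agent.H459.Rad.rad_eq_bot_of_simple (not_solvable h), mem_bot] at h1
    exact h1
  -- odd elements of `C_D(z)` in `N`
  have hNC : ∀ n ∈ N, n * z = z * n → n ∈ zpowers x₀ := by
    intro n hn hnz
    have h1 : φ ⟨n, mem_centralizer_singleton_iff.2 hnz⟩ = 1 := by
      rw [← hFφ]; exact hNF hn
    have h2 : Odd (orderOf (⟨n, mem_centralizer_singleton_iff.2 hnz⟩ : ↥(centralizer ({z} : Set D)))) := by
      rw [Subgroup.orderOf_mk]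
      exact hNo.of_dvd_nat (Subgroup.orderOf_dvd_natCard N hn)
    exact mem_zpowers_of_ker h h9 hx₀ hc h1 (cube_of_odd h h1 h2)
  -- the quotient by `⟨x₀⟩`
  have hZn : (zpowers x₀).Normal := ⟨fun k hk g => by
    obtain ⟨i, rfl⟩ := hk
    have h1 : g * x₀ ^ i * g⁻¹ = x₀ ^ i := by
      have h2 : Commute g x₀ := hc g
      rw [(h2.zpow_right i).eq, mul_inv_cancel_right]
    show g * x₀ ^ i * g⁻¹ ∈ _
    rw [h1]
    exact zpow_mem (mem_zpowers x₀) i⟩
  let q : D →* D ⧸ zpowers x₀ := QuotientGroup.mk' (zpowers x₀)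
  have hq : Function.Surjective q := QuotientGroup.mk'_surjective _
  have hq1 : ∀ d : D, q d = 1 ↔ d ∈ zpowers x₀ := fun d => QuotientGroup.eq_one_iff d
  have hfq : Finite (D ⧸ zpowers x₀) := Quotient.finite _
  have hcardq : Nat.card (D ⧸ zpowers x₀) * 3 = Nat.card D := by
    have h1 := card_eq_card_quotient_mul_card_subgroup (zpowers x₀)
    rw [Nat.card_zpowers, hx₀] at h1
    exact h1.symm
  have hxz : ∀ i : ℤ, (x₀ ^ i) ^ 3 = 1 := by
    intro i
    rw [← zpow_natCast, ← zpow_mul, mul_comm, zpow_mul, zpow_natCast, hx3, one_zpow]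
  have hx6 : ∀ i : ℤ, x₀ ^ i * x₀ ^ i = 1 → x₀ ^ i = 1 := by
    intro i hi
    have h1 := hxz i
    rw [pow_succ, pow_two, hi, one_mul] at h1
    exact h1
  have hxc : ∀ (i : ℤ) (d : D), d * x₀ ^ i = x₀ ^ i * d := fun i d => ((show Commute d x₀ from hc d).zpow_right i).eq
  -- an involution commuting modulo `⟨x₀⟩` commutes
  have hlift : ∀ s : D, s * s = 1 → ∀ d : D, q s * q d = q d * q s → s * d = d * s := by
    intro s hs d hsd
    have hsi : s⁻¹ = s := inv_eq_of_mul_eq_one_left hs
    have h1 : q (s * d * s⁻¹ * d⁻¹) = 1 := by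
      rw [map_mul, map_mul, map_mul, map_inv, map_inv, hsd]
      group
    obtain ⟨i, hi⟩ := (hq1 _).1 h1
    have hi' : s * d * s⁻¹ = x₀ ^ i * d := by
      have : x₀ ^ i = s * d * s⁻¹ * d⁻¹ := hi
      rw [this]; group
    have h2 : d = x₀ ^ i * x₀ ^ i * d := by
      calc d = (s * s) * d * (s * s)⁻¹ := by rw [hs]; group
        _ = s * (s * d * s⁻¹) * s⁻¹ := by group
        _ = s * (x₀ ^ i * d) * s⁻¹ := by rw [hi']
        _ = (s * x₀ ^ i) * d * s⁻¹ := by group
        _ = x₀ ^ i * (s * d * s⁻¹) := by rw [hxc]; group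
        _ = x₀ ^ i * x₀ ^ i * d := by rw [hi', mul_assoc]
    have h3 : x₀ ^ i * x₀ ^ i = 1 := mul_eq_right.1 h2.symm
    rw [hx6 i h3, one_mul] at hi'
    exact mul_inv_eq_iff_eq_mul.1 hi'
  -- the image of `N`
  set Nb := N.map q with hNb
  have hNbn : Nb.Normal := hN.map q hq
  have hNbo : Odd (Nat.card ↥Nb) := hNo.of_dvd_nat (card_map_dvd N q)
  have hinv : (∀ v ∈ Nb, q z * v * (q z)⁻¹ = v⁻¹) ∧ Odd (Nat.card Nb) := by
    refine HNType.Simple.inv_of_cent (fun v hv => hNbn.conj_mem v hv (q z)) (by rw [← map_mul, hz2, map_one]) ?_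
    rintro _ ⟨n, hn, rfl⟩ hv
    rw [hq1]
    exact hNC n hn (hlift z hz2 n hv).symm
  have hNbc : ∀ a ∈ Nb, ∀ b ∈ Nb, a * b = b * a := by
    intro a ha b hb
    have h1 := hinv.1 (a * b) (mul_mem ha hb)
    have h2 : q z * (a * b) * (q z)⁻¹ = (q z * a * (q z)⁻¹) * (q z * b * (q z)⁻¹) := by group
    rw [h2, hinv.1 a ha, hinv.1 b hb, mul_inv_rev] at h1
    have h3 := congrArg (fun g => g⁻¹) h1
    simp only [mul_inv_rev, inv_inv] at h3
    exact h3.symm
  -- `q y ∈ Nb`
  have hyNb : q y ∈ Nb := by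
    have h1 : y ∈ N ⊔ centralizer ({z} : Set D) := by rw [hsup]; trivial
    obtain ⟨n, hn, c, hcC, rfl⟩ := mem_sup_of_normal_left.1 h1
    have h2 : φ ⟨c, hcC⟩ = 1 := by
      rw [← hFφ]
      have h3 : F (n * c) = F c := by rw [map_mul, MonoidHom.mem_ker.1 (hNF hn), one_mul]
      rw [h3] at hFy
      exact hFy
    -- `c ^ 3 ∈ N`
    have h3 : c ^ 3 ∈ N := by
      have h4 : (QuotientGroup.mk' N) (n * c) = (QuotientGroup.mk' N) c := by
        rw [map_mul, show QuotientGroup.mk' N n = 1 from (QuotientGroup.eq_one_iff _).2 hn, one_mul]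
      have h5 : (QuotientGroup.mk' N) (c ^ orderOf (n * c)) = 1 := by
        rw [map_pow, ← h4, ← map_pow, pow_orderOf_eq_one, map_one]
      have h6 : c ^ orderOf (n * c) ∈ N := (QuotientGroup.eq_one_iff _).1 h5
      have h7 : c ^ 6 = 1 := congrArg Subtype.val (h.ker.six _ h2)
      obtain ⟨m, hm⟩ := hyodd
      have h8 : (c ^ orderOf (n * c)) ^ 3 = c ^ 3 := by
        rw [hm, ← pow_mul, show (2 * m + 1) * 3 = 6 * m + 3 by ring, pow_add, pow_mul, h7, one_pow, one_mul]
      rw [← h8]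
      exact pow_mem h6 3
    have h4 : (⟨c, hcC⟩ : ↥(centralizer ({z} : Set D))) ^ 3 = 1 := by
      have h5 : (⟨c, hcC⟩ : ↥(centralizer ({z} : Set D))) ^ 3 * (⟨c, hcC⟩ : ↥(centralizer ({z} : Set D))) ^ 3 = 1 := by
        rw [← pow_add]
        exact h.ker.six _ h2
      have h6 : φ ((⟨c, hcC⟩ : ↥(centralizer ({z} : Set D))) ^ 3) = 1 := by rw [map_pow, h2, one_pow]
      rcases h.ker.two _ h6 h5 with h7 | h7
      · exact h7
      · exfalso
        have h8 : c ^ 3 = z := congrArg Subtype.val h7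
        have h9 := Subgroup.orderOf_dvd_natCard N h3
        rw [h8, h.ord] at h9
        exact (Nat.not_even_iff_odd.2 hNo) (even_iff_two_dvd.2 h9)
    have h5 := mem_zpowers_of_ker h h9 hx₀ hc h2 h4
    rw [map_mul, (hq1 c).2 h5, mul_one]
    exact ⟨n, hn, rfl⟩
  by_cases hy1 : q y = 1
  · obtain ⟨i, hi⟩ := (hq1 y).1 hy1
    refine ⟨z, hz2, hz1, ?_⟩
    have hi' : x₀ ^ i = y := hi
    rw [← hi']
    exact hxc i z
  -- the Sylow 3-subgroup
  let S : Subgroup (D ⧸ zpowers x₀) :=
    { carrier := {v | v ∈ Nb ∧ ∃ k : ℕ, v ^ 3 ^ k = 1}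
      one_mem' := ⟨one_mem _, 0, one_pow _⟩
      mul_mem' := fun {a b} ha hb => ⟨mul_mem ha.1 hb.1, by
        obtain ⟨k, hk⟩ := ha.2
        obtain ⟨l, hl⟩ := hb.2
        refine ⟨k + l, ?_⟩
        rw [(show Commute a b from hNbc a ha.1 b hb.1).mul_pow, pow_add, pow_mul, hk, one_pow, one_mul, mul_comm (3 ^ k),
          pow_mul, hl, one_pow]⟩
      inv_mem' := fun {a} ha => ⟨inv_mem ha.1, by
        obtain ⟨k, hk⟩ := ha.2
        exact ⟨k, by rw [inv_pow, hk, inv_one]⟩⟩ }
  have hSle : S ≤ Nb := fun v hv => hv.1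
  have hSp : IsPGroup 3 ↥S := fun v => by
    obtain ⟨k, hk⟩ := v.2.2
    exact ⟨k, Subtype.ext hk⟩
  obtain ⟨b, hb⟩ := IsPGroup.iff_card.1 hSp
  have hb12 : b ≤ 12 := by
    by_contra hcon
    apply hD
    have h1 : 3 ^ 13 ∣ Nat.card ↥Nb := (pow_dvd_pow 3 (by omega)).trans (hb ▸ card_dvd_of_le hSle)
    -- the quotient
    have h2 : Nat.card X ∣ Nb.index := by
      let Fb : D ⧸ zpowers x₀ →* X := QuotientGroup.lift (zpowers x₀) F (by
        rintro _ ⟨i, rfl⟩
        show F (x₀ ^ i) = 1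
        rw [map_zpow]
        have h3 : F x₀ = 1 := by
          have h4 := hFφ ⟨x₀, mem_centralizer_singleton_iff.2 (hc z).symm⟩
          rw [map_center h hc] at h4
          exact h4
        rw [h3, one_zpow])
      have hFbs : Function.Surjective Fb := by
        intro x
        obtain ⟨d, rfl⟩ := hFs x
        exact ⟨q d, rfl⟩
      have h3 : Nb ≤ Fb.ker := by
        rintro _ ⟨n, hn, rfl⟩
        exact hNF hn
      have h4 : Fb.ker.index = Nat.card X := by
        rw [index_ker, MonoidHom.range_eq_top.2 hFbs, card_top]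
      rw [← h4]
      exact index_dvd_of_le h3
    rw [← hcardq, ← Nb.card_mul_index]
    have h5 : 3 ^ 7 ∣ Nb.index := by
      refine Dvd.dvd.trans ?_ h2
      rw [hXc]; norm_num
    have h6 := Nat.mul_dvd_mul (Nat.mul_dvd_mul h1 h5) (dvd_refl 3)
    have h7 : (3 : ℕ) ^ 21 = 3 ^ 13 * 3 ^ 7 * 3 := by norm_num
    rw [h7]
    exact h6
  have hScard : Nat.card ↥S ≤ 3 ^ 12 := by
    rw [hb]; exact Nat.pow_le_pow_right (by norm_num) hb12
  have hyS : q y ∈ S := by
    refine ⟨hyNb, ?_⟩
    -- `q y ^ (-2)` is a 3-element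
    have h1 : q (y⁻¹ * (z * y * z⁻¹)) = (q y)⁻¹ * (q y)⁻¹ := by
      rw [map_mul, map_inv, map_mul, map_mul, map_inv, hinv.1 _ hyNb]
    obtain ⟨k, hk⟩ := hP ⟨_, hyP z⟩
    have hk' : (y⁻¹ * (z * y * z⁻¹)) ^ 3 ^ k = 1 := congrArg Subtype.val hk
    have h2 : ((q y) ^ 2) ^ 3 ^ k = 1 := by
      have h3 : ((q y)⁻¹ * (q y)⁻¹) ^ 3 ^ k = 1 := by rw [← h1, ← map_pow, hk', map_one]
      have h4 : (q y)⁻¹ * (q y)⁻¹ = ((q y) ^ 2)⁻¹ := by rw [pow_two, mul_inv_rev]
      rw [h4, inv_pow, inv_eq_one] at h3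
      exact h3
    obtain ⟨m, hm⟩ := hyodd
    refine ⟨k, ?_⟩
    have h5 : q y = ((q y) ^ 2) ^ (m + 1) := by
      rw [← pow_mul, show 2 * (m + 1) = orderOf y + 1 by omega, pow_succ, ← map_pow, pow_orderOf_eq_one, map_one, one_mul]
    rw [h5, ← pow_mul, mul_comm (m + 1), pow_mul, h2, one_pow]
  have hSn : ∀ v ∈ S, ∀ g, g * v * g⁻¹ ∈ S := fun v hv g =>
    ⟨hNbn.conj_mem v hv.1 g, by
      obtain ⟨k, hk⟩ := hv.2
      exact ⟨k, by rw [conj_pow, hk, mul_one, mul_inv_cancel]⟩⟩
  -- the number of conjugates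
  have hconj : (centralizer ({q y} : Set (D ⧸ zpowers x₀))).index + 1 ≤ Nat.card ↥S := by
    rw [Cfsg.Agent.Blocks.ClassScalar.index_centralizer]
    let f : Option {x : D ⧸ zpowers x₀ // IsConj (q y) x} → ↥S := fun o =>
      match o with
      | none => 1
      | some x => ⟨x, by
          obtain ⟨g, hg⟩ := isConj_iff.1 x.2
          rw [← hg]
          exact hSn _ hyS g⟩
    have hne : ∀ x : {x : D ⧸ zpowers x₀ // IsConj (q y) x}, (x : D ⧸ zpowers x₀) ≠ 1 := by
      rintro ⟨x, hx⟩ h1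
      change x = 1 at h1
      rw [h1, isConj_one_left] at hx
      exact hy1 hx
    have hf : Function.Injective f := by
      rintro (_ | a) (_ | b) hab
      · rfl
      · exfalso
        exact hne b (congrArg Subtype.val hab).symm
      · exfalso
        exact hne a (congrArg Subtype.val hab)
      · congr 1
        exact Subtype.ext (congrArg (fun s : ↥S => (s : D ⧸ zpowers x₀)) hab)
    have h1 := Nat.card_le_card_of_injective f hf
    rwa [Finite.card_option] at h1
  -- the stabilizer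
  set T : Subgroup ↥(centralizer ({z} : Set D)) :=
    (centralizer ({q y} : Set (D ⧸ zpowers x₀))).comap (q.comp (centralizer ({z} : Set D)).subtype) with hT
  have hTi : T.index ≤ (centralizer ({q y} : Set (D ⧸ zpowers x₀))).index := by
    rw [hT, index_comap, ← relIndex_top_right (H := centralizer ({q y} : Set (D ⧸ zpowers x₀)))]
    exact relIndex_le_of_le_right le_top (by rw [relIndex_top_right]; exact index_ne_zero_of_finite)
  have hTmem : ∀ c : ↥(centralizer ({z} : Set D)), c ∈ T → q c * q y = q y * q c := fun c hc =>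
    mem_centralizer_singleton_iff.1 hc
  rcases Nat.even_or_odd (Nat.card ↥T) with hev | hodd
  · obtain ⟨s, hs⟩ := exists_prime_orderOf_dvd_card' (G := ↥T) 2 (even_iff_two_dvd.1 hev)
    have hs2 : s * s = 1 := by rw [← pow_two, ← hs, pow_orderOf_eq_one]
    have hs1 : s ≠ 1 := by
      intro h1
      rw [h1, orderOf_one] at hs
      exact absurd hs (by norm_num)
    have hss : (((s : ↥(centralizer ({z} : Set D))) : D)) * ((s : ↥(centralizer ({z} : Set D))) : D) = 1 :=
      congrArg (fun t : ↥T => ((t : ↥(centralizer ({z} : Set D))) : D)) hs2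
    exact ⟨_, hss, fun h1 => hs1 (Subtype.ext (Subtype.ext h1)), hlift _ hss y (hTmem _ s.2)⟩
  · exfalso
    let ψ : ↥T →* X := φ.comp T.subtype
    have hψ : Nat.card ↥T = Nat.card ↥ψ.range * Nat.card ↥ψ.ker := by
      rw [card_eq_card_quotient_mul_card_subgroup ψ.ker,
        Nat.card_congr (QuotientGroup.quotientKerEquivRange ψ).toEquiv]
    have hk : Nat.card ↥ψ.ker ≤ 3 := by
      have h1 : ∀ k : ↥ψ.ker, ((((k : ↥T) : ↥(centralizer ({z} : Set D))) : D)) ∈ zpowers x₀ := by
        intro k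
        have h2 : φ ((k : ↥T) : ↥(centralizer ({z} : Set D))) = 1 := k.2
        refine mem_zpowers_of_ker h h9 hx₀ hc h2 (cube_of_odd h h2 ?_)
        rw [Subgroup.orderOf_coe]
        exact hodd.of_dvd_nat (orderOf_dvd_natCard (k : ↥T))
      have h2 : Nat.card ↥ψ.ker ≤ Nat.card ↥(zpowers x₀) := by
        refine Nat.card_le_card_of_injective
          (fun k => (⟨((((k : ↥T) : ↥(centralizer ({z} : Set D))) : D)), h1 k⟩ : ↥(zpowers x₀))) ?_
        intro a b hab
        exact Subtype.ext (Subtype.ext (Subtype.ext (congrArg (fun t : ↥(zpowers x₀) => (t : D)) hab)))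
      rwa [Nat.card_zpowers, hx₀] at h2
    have hr : 33 * Nat.card ↥ψ.range ≤ 54729675 := by
      have h1 : Odd (Nat.card ↥ψ.range) := hodd.of_dvd_nat (by rw [hψ]; exact dvd_mul_right _ _)
      have h2 : Nat.card ↥(ψ.range.map e.toMonoidHom) = Nat.card ↥ψ.range := card_map_of_injective e.injective
      rw [← h2] at h1 ⊢
      exact SuzOdd.odd_bound h1
    have hC : Nat.card ↥(centralizer ({z} : Set D)) = 448345497600 * Nat.card ↥φ.ker := by
      rw [card_eq_card_quotient_mul_card_subgroup φ.ker,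
        Nat.card_congr (QuotientGroup.quotientKerEquivOfSurjective φ h.surj).toEquiv, hXc]
    have h6 : 6 ≤ Nat.card ↥φ.ker := by
      have h2 : 2 ∣ Nat.card ↥φ.ker := by
        have h3 : φ zA = 1 := by
          by_contra h4
          -- `φ z` is central
          have h5 : φ zA ∈ center X := by
            rw [mem_center_iff]
            intro x
            obtain ⟨c, rfl⟩ := h.surj x
            rw [← map_mul, ← map_mul]
            congr 1
            exact Subtype.ext (mem_centralizer_singleton_iff.1 c.2)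
          rcases (inferInstance : (center X).Normal).eq_bot_or_eq_top with h7 | h7
          · rw [h7, mem_bot] at h5
            exact h4 h5
          · refine not_solvable h (Group.isSolvable_of_comm fun a b => ?_)
            exact (mem_center_iff.1 (h7 ▸ mem_top b) a)
        let k : ↥φ.ker := ⟨zA, h3⟩
        have h4 := orderOf_dvd_natCard k
        have h5 : orderOf k = 2 := by
          rw [← Subgroup.orderOf_coe, ← Subgroup.orderOf_coe]
          exact h.ord
        rwa [h5] at h4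
      have h3 : 3 ∣ Nat.card ↥φ.ker := by
        let k : ↥φ.ker := ⟨⟨x₀, mem_centralizer_singleton_iff.2 (hc z).symm⟩, map_center h hc⟩
        have h4 := orderOf_dvd_natCard k
        have h5 : orderOf k = 3 := by
          rw [← Subgroup.orderOf_coe, ← Subgroup.orderOf_coe]
          exact hx₀
        rwa [h5] at h4
      have h4 : 0 < Nat.card ↥φ.ker := Nat.card_pos
      omega
    have hfin := T.card_mul_index
    rw [hC, hψ] at hfin
    have hi : T.index ≤ 531440 := by omega
    have h7 : Nat.card ↥ψ.range * Nat.card ↥ψ.ker * T.index ≤ Nat.card ↥ψ.range * 3 * 531440 :=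
      Nat.mul_le_mul (Nat.mul_le_mul_left _ hk) hi
    omega

end Cfsg.Agent.H472.MonOrb
end

-- part: H472/MonAbs
section
/-!
# The Monster at the prime 3: abstract part (helper472)

* `card_le` : two commuting fixed-point-free automorphisms `a`, `b` of order 3 of an elementary abelian 2-group `V`:
  `|V| ≤ |C_V(ab)| |C_V(ab⁻¹)|`;
* `Q3 x` : `x ≠ 1` is central modulo `O_3(D)` in every proper subgroup `D` containing it, commutes with no involution and
  normalizes a Sylow 3-subgroup;
* `Q3.exists_y` : if `x` and the involution `z` normalize `T ∈ Syl_3(G)` and `x` does not centralize `x₀ ∈ Z(T) ∩ C(z)` of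
  order 3, then some `y ∈ N(T) ∩ C(z)` satisfies `x₀^y ≠ x₀, x₀⁻¹`.
-/

set_option autoImplicit false

namespace Cfsg.Agent.H472.MonAbs

open Subgroup Cfsg
open Cfsg.Agent.Lib.Cores
open Cfsg.Agent.H472.ComRed (cm cm_eq' cm_eq_one map_cm exists_conj_commute)

universe u

local instance : Fact (Nat.Prime 3) := ⟨Nat.prime_three⟩

/-! ### Linear algebra -/

section lin

variable {V : Type*} [AddCommGroup V] {A : Type*} [Group A] [DistribMulAction A V]

/-- Two commuting fixed-point-free elements of order 3. -/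
theorem card_le [Finite V] (h2 : ∀ v : V, v + v = 0) {a b : A} (hab : a * b = b * a)
    (ha : ∀ v : V, v + a • v + a • a • v = 0) (hb : ∀ v : V, v + b • v + b • b • v = 0) :
    Nat.card V ≤ Nat.card {v : V // (a * b) • v = v} * Nat.card {v : V // (a * b⁻¹) • v = v} := by
  have hab' : ∀ v : V, a • b • v = b • a • v := fun v => by rw [← mul_smul, hab, mul_smul]
  have key : ∀ u v w : V, u + v + w = 0 → w = u + v := by
    intro u v w h
    have h3 := h2 (u + v)
    have h4 : u + v + (u + v + w) = (u + v) + (u + v) + w := by abel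
    rw [h, h3, add_zero, zero_add] at h4
    exact h4.symm
  have haa : ∀ v : V, a • a • v = v + a • v := fun v => key _ _ _ (ha v)
  have hbb : ∀ v : V, b • b • v = v + b • v := fun v => key _ _ _ (hb v)
  -- the two maps
  have h1 : ∀ v : V, (a * b) • (a • v + b • v) = a • v + b • v := by
    intro v
    rw [mul_smul, smul_add, hbb, smul_add, smul_add, ← hab' v, haa (b • v)]
    have e : b • v + a • b • v + (a • v + a • b • v) = a • v + b • v + (a • b • v + a • b • v) := by abel
    rw [e, h2, add_zero]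
  have h3 : ∀ v : V, (a * b⁻¹) • (a • v + (v + b • v)) = a • v + (v + b • v) := by
    intro v
    have e1 : a • (a • v + (v + b • v)) = b • (a • v + (v + b • v)) := by
      simp only [smul_add]
      rw [haa, hbb, hab' v]
      have e2 : v + a • v + (a • v + b • a • v) = v + b • a • v + (a • v + a • v) := by abel
      have e3 : b • a • v + (b • v + (v + b • v)) = v + b • a • v + (b • v + b • v) := by abel
      rw [e2, e3, h2, h2]
    have e4 : a * b⁻¹ = b⁻¹ * a := by
      rw [eq_inv_mul_iff_mul_eq, ← mul_assoc, ← hab, mul_inv_cancel_right]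
    rw [e4, mul_smul, e1, inv_smul_smul]
  let f : V → {v : V // (a * b) • v = v} × {v : V // (a * b⁻¹) • v = v} := fun v => (⟨_, h1 v⟩, ⟨_, h3 v⟩)
  have hf : Function.Injective f := by
    intro v w h
    have e1 : a • v + b • v = a • w + b • w := congrArg (fun p => (p.1 : V)) h
    have e2 : a • v + (v + b • v) = a • w + (w + b • w) := congrArg (fun p => (p.2 : V)) h
    have e3 : ∀ v : V, v = (a • v + b • v) + (a • v + (v + b • v)) := by
      intro v
      have e4 : (a • v + b • v) + (a • v + (v + b • v)) = v + (a • v + a • v) + (b • v + b • v) := by abel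
      rw [e4, h2, h2, add_zero, add_zero]
    rw [e3 v, e3 w, e1, e2]
  have h4 := Nat.card_le_card_of_injective f hf
  rwa [Nat.card_prod] at h4

/-- an element of order 3 without fixed points -/
theorem sum_zero {s : A} (hs : s ^ 3 = 1) (hf : Nat.card {v : V // s • v = v} = 1) (v : V) :
    v + s • v + s • s • v = 0 := by
  have h1 : s • (v + s • v + s • s • v) = v + s • v + s • s • v := by
    have h2 : s • s • s • v = v := by
      rw [← mul_smul, ← mul_smul, ← pow_three', hs, one_smul]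
    rw [smul_add, smul_add, h2]
    abel
  have h3 : Subsingleton {v : V // s • v = v} := (Nat.card_eq_one_iff_unique.1 hf).1
  have h4 : (⟨_, h1⟩ : {v : V // s • v = v}) = ⟨0, smul_zero s⟩ := Subsingleton.elim _ _
  exact congrArg Subtype.val h4

end lin

/-! ### The property -/

section grp

variable {G : Type u} [Group G]

/-- The elements to be excluded. -/
structure Q3 (x : G) : Prop where
  ne : x ≠ 1
  ind : ∀ D : Subgroup G, x ∈ D → D ≠ ⊤ → ∀ d ∈ D, x⁻¹ * (d * x * d⁻¹) ∈ (pCore 3 D).map D.subtype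
  odd : ∀ v : G, v * v = 1 → v ≠ 1 → v * x ≠ x * v
  nrm : ∃ T : Sylow 3 G, x ∈ normalizer ((T : Subgroup G) : Set G)

/-- Transfer. -/
theorem Q3.map {G' : Type*} [Group G'] (e : G ≃* G') {x : G} (h : Q3 x) : Q3 (e x) where
  ne := fun h1 => h.ne (e.map_eq_one_iff.1 h1)
  odd := fun v hv hv1 hvx => by
    refine h.odd (e.symm v) (by rw [← map_mul, hv, map_one]) (fun h1 => hv1 (e.symm.map_eq_one_iff.1 h1)) ?_
    apply e.injective
    rw [map_mul, map_mul, e.apply_symm_apply, hvx]
  nrm := by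
    obtain ⟨T, hT⟩ := h.nrm
    have h1 : IsPGroup 3 ((T : Subgroup G).map e.toMonoidHom) := T.isPGroup'.map _
    let T' : Sylow 3 G' :=
      { toSubgroup := (T : Subgroup G).map e.toMonoidHom
        isPGroup' := h1
        is_maximal' := by
          intro Q hQ hTQ
          have h2 : (T : Subgroup G) ≤ Q.comap e.toMonoidHom := map_le_iff_le_comap.1 hTQ
          have h3 : IsPGroup 3 (Q.comap e.toMonoidHom) := hQ.comap_of_injective _ e.injective
          have h4 := T.is_maximal' h3 h2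
          rw [← h4]
          exact (map_comap_eq_self_of_surjective e.surjective Q).symm }
    refine ⟨T', ?_⟩
    show e x ∈ normalizer (((T : Subgroup G).map e.toMonoidHom : Subgroup G') : Set G')
    rw [mem_normalizer_iff] at hT ⊢
    intro k
    have h2 : ∀ k : G', k ∈ (T : Subgroup G).map e.toMonoidHom ↔ e.symm k ∈ (T : Subgroup G) := by
      intro k
      rw [mem_map_equiv]
    show k ∈ (T : Subgroup G).map e.toMonoidHom ↔ e x * k * (e x)⁻¹ ∈ (T : Subgroup G).map e.toMonoidHom
    rw [h2, h2, map_mul, map_mul, map_inv, e.symm_apply_apply]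
    exact hT (e.symm k)
  ind := fun D' hx hD' d' hd' => by
    set D : Subgroup G := D'.comap e.toMonoidHom with hD
    have hxD : x ∈ D := hx
    have hDt : D ≠ ⊤ := by
      intro h1
      apply hD'
      rw [eq_top_iff]
      intro k _
      have h2 : e.symm k ∈ D := h1 ▸ mem_top _
      have h3 : e (e.symm k) ∈ D' := h2
      rwa [e.apply_symm_apply] at h3
    have hdD : e.symm d' ∈ D := by
      show e (e.symm d') ∈ D'
      rwa [e.apply_symm_apply]
    have h1 := h.ind D hxD hDt (e.symm d') hdD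
    -- the image of `O_3(D)`
    have h2 : e (x⁻¹ * (e.symm d' * x * (e.symm d')⁻¹)) ∈ ((pCore 3 D).map D.subtype).map e.toMonoidHom :=
      mem_map_of_mem _ h1
    have h3 : e (x⁻¹ * (e.symm d' * x * (e.symm d')⁻¹)) = (e x)⁻¹ * (d' * e x * d'⁻¹) := by
      rw [map_mul, map_inv, map_mul, map_mul, map_inv, e.apply_symm_apply]
    rw [h3] at h2
    set R : Subgroup G' := ((pCore 3 D).map D.subtype).map e.toMonoidHom with hR
    have hRp : IsPGroup 3 R := ((pCore_isPGroup (G := D) 3).map _).map _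
    have hRD : R ≤ D' := by
      rintro _ ⟨r, ⟨s, -, rfl⟩, rfl⟩
      exact s.2
    have hRn : (R.subgroupOf D').Normal := by
      refine ⟨fun r hr k => ?_⟩
      rw [mem_subgroupOf] at hr ⊢
      obtain ⟨_, ⟨s, hs, rfl⟩, hsr⟩ := hr
      have hk : e.symm (k : G') ∈ D := by
        show e (e.symm (k : G')) ∈ D'
        rw [e.apply_symm_apply]
        exact k.2
      have h4 := (pCore_normal (G := D) 3).conj_mem s hs ⟨_, hk⟩
      refine ⟨_, ⟨_, h4, rfl⟩, ?_⟩
      show e (e.symm (k : G') * s * (e.symm (k : G'))⁻¹) = (k : G') * r * (k : G')⁻¹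
      rw [map_mul, map_mul, map_inv, e.apply_symm_apply]
      have h5 : e s = r := hsr
      rw [h5]
    have h5 : R.subgroupOf D' ≤ pCore 3 D' := le_pCore hRn hRp.comap_subtype
    have h6 : (e x)⁻¹ * (d' * e x * d'⁻¹) ∈ D' := hRD h2
    exact ⟨⟨_, h6⟩, h5 (mem_subgroupOf.2 h2), rfl⟩

theorem Q3.conj {x : G} (h : Q3 x) (g : G) : Q3 (g * x * g⁻¹) := h.map (MulAut.conj g)

variable [Finite G]

theorem Q3.odd_order {x : G} (h : Q3 x) : Odd (orderOf x) := by
  rw [← Nat.not_even_iff_odd]
  intro hev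
  refine h.odd (x ^ (orderOf x / 2)) ?_ ?_ ?_
  · rw [← pow_add, ← two_mul, Nat.mul_div_cancel' (even_iff_two_dvd.1 hev), pow_orderOf_eq_one]
  · intro h1
    have h2 := orderOf_dvd_of_pow_eq_one h1
    have h3 : 0 < orderOf x := orderOf_pos x
    have h4 := Nat.le_of_dvd (Nat.div_pos (Nat.le_of_dvd h3 (even_iff_two_dvd.1 hev)) (by norm_num)) h2
    omega
  · exact ((Commute.refl x).pow_left _).eq

theorem Q3.exists_y {x z x₀ : G} (h : Q3 x) (T : Sylow 3 G) (hxT : x ∈ normalizer ((T : Subgroup G) : Set G))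
    (hzT : z ∈ normalizer ((T : Subgroup G) : Set G)) (hB : normalizer ((T : Subgroup G) : Set G) ≠ ⊤)
    (hz : orderOf z = 2) (hx₀T : ∀ t ∈ (T : Subgroup G), t * x₀ = x₀ * t) (hxx₀ : x * x₀ ≠ x₀ * x) :
    ∃ y : G, y * z = z * y ∧ y ∈ normalizer ((T : Subgroup G) : Set G) ∧ y * x₀ * y⁻¹ ≠ x₀ ∧ y * x₀ * y⁻¹ ≠ x₀⁻¹ := by
  classical
  obtain ⟨k, m, hm, hn⟩ := Nat.exists_eq_pow_mul_and_not_dvd (orderOf_pos x).ne' 3 (by norm_num)
  have hcop : (3 ^ k).Coprime m := Nat.Coprime.pow_left k ((Nat.Prime.coprime_iff_not_dvd Nat.prime_three).2 hm)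
  set B := normalizer ((T : Subgroup G) : Set G) with hBdef
  -- the 3-part
  have he : x ^ m ∈ (T : Subgroup G) := by
    have h1 : IsPGroup 3 (zpowers (x ^ m)) := by
      refine IsPGroup.of_card_dvd_pow (n := k) ?_
      rw [Nat.card_zpowers]
      apply orderOf_dvd_of_pow_eq_one
      rw [← pow_mul, mul_comm, ← hn, pow_orderOf_eq_one]
    have h2 := h1.inf_normalizer_sylow T
    have h3 : x ^ m ∈ zpowers (x ^ m) ⊓ B := ⟨mem_zpowers _, pow_mem hxT m⟩
    have h4 : x ^ m ∈ zpowers (x ^ m) ⊓ (T : Subgroup G) := by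
      rw [← h2]
      exact h3
    exact h4.2
  have hy₀ : x ^ 3 ^ k * x₀ ≠ x₀ * x ^ 3 ^ k := by
    intro h1
    apply hxx₀
    have h2 : Commute (x ^ 3 ^ k) x₀ := h1
    have h3 : Commute (x ^ m) x₀ := hx₀T _ he
    have h4 : (1 : ℤ) = (3 ^ k : ℕ) * (3 ^ k : ℕ).gcdA m + m * (3 ^ k : ℕ).gcdB m := by
      rw [← Nat.gcd_eq_gcd_ab, hcop.gcd_eq_one]
      rfl
    have h5 : x = (x ^ 3 ^ k) ^ ((3 ^ k : ℕ).gcdA m) * (x ^ m) ^ ((3 ^ k : ℕ).gcdB m) := by
      rw [← zpow_natCast, ← zpow_natCast, ← zpow_mul, ← zpow_mul, ← zpow_add, ← h4, zpow_one]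
    have h6 : Commute x x₀ := by
      rw [h5]
      exact (h2.zpow_left _).mul_left (h3.zpow_left _)
    exact h6
  -- inside the normalizer
  have hTB : (T : Subgroup G) ≤ B := le_normalizer
  set P : Subgroup B := (T : Subgroup G).subgroupOf B with hP
  have hPn : P.Normal := by
    rw [hP]
    exact Subgroup.normal_in_normalizer
  have hPp : IsPGroup 3 P := T.isPGroup'.comap_subtype
  have hcen : ∀ d : B, cm (⟨x, hxT⟩ : B) d ∈ P := by
    intro d
    have h1 := h.ind B hxT hB (d : G)⁻¹ (inv_mem d.2)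
    obtain ⟨r, hr, hre⟩ := h1
    have h2 : r ∈ (T.subtype hTB : Subgroup B) := pCore_le_sylow (T.subtype hTB) hr
    rw [Sylow.coe_subtype] at h2
    have h3 : r = cm (⟨x, hxT⟩ : B) d := by
      apply Subtype.ext
      have h4 : (r : G) = x⁻¹ * ((d : G)⁻¹ * x * (d : G)⁻¹⁻¹) := hre
      rw [h4, inv_inv, cm_eq']
      rfl
    rw [← h3]
    exact h2
  set y₀ : B := (⟨x, hxT⟩ : B) ^ 3 ^ k with hy₀def
  have hy₀c : (y₀ : G) = x ^ 3 ^ k := rfl
  set z' : B := ⟨z, hzT⟩ with hz'
  have hyz : cm y₀ z' ∈ P := by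
    have h1 : QuotientGroup.mk' P (cm y₀ z') = 1 := by
      rw [map_cm, cm_eq_one, hy₀def, map_pow]
      have h2 : Commute (QuotientGroup.mk' P (⟨x, hxT⟩ : B)) (QuotientGroup.mk' P z') := by
        have h3 : QuotientGroup.mk' P (cm (⟨x, hxT⟩ : B) z') = 1 := (QuotientGroup.eq_one_iff _).2 (hcen z')
        rw [map_cm, cm_eq_one] at h3
        exact h3
      exact h2.pow_left _
    exact (QuotientGroup.eq_one_iff _).1 h1
  obtain ⟨a, ha, hcomm⟩ := exists_conj_commute (B := B) (P := P) hPp (x := y₀) (v := z') (by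
      rw [← Subgroup.orderOf_coe, hy₀c, orderOf_pow_of_dvd (pow_ne_zero _ (by norm_num)) (by rw [hn]; exact dvd_mul_right _ _),
        hn, Nat.mul_div_cancel_left _ (by positivity)]
      exact ((Nat.Prime.coprime_iff_not_dvd Nat.prime_three).2 hm).symm) (by
      rw [← Subgroup.orderOf_coe, hz', hz]
      norm_num) hyz
  have haT : (a : G) ∈ (T : Subgroup G) := mem_subgroupOf.1 ha
  have hax : Commute (a : G) x₀ := hx₀T _ haT
  set y : G := (a : G) * x ^ 3 ^ k * (a : G)⁻¹ with hy
  have hyne : ¬ Commute y x₀ := by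
    intro h1
    apply hy₀
    have h2 : x ^ 3 ^ k = (a : G)⁻¹ * y * a := by rw [hy]; group
    rw [h2]
    exact ((hax.inv_left.mul_left h1).mul_left hax)
  refine ⟨y, congrArg Subtype.val hcomm, ?_, ?_, ?_⟩
  · exact mul_mem (mul_mem a.2 (pow_mem hxT _)) (inv_mem a.2)
  · intro h1
    exact hyne (mul_inv_eq_iff_eq_mul.1 h1)
  · intro h1
    -- `y ^ 2` commutes with `x₀`
    have h2 : Commute (y * y) x₀ := by
      have h3 : y * x₀ = x₀⁻¹ * y := mul_inv_eq_iff_eq_mul.1 h1
      have h4 : y * x₀⁻¹ = x₀ * y := by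
        have h5 : y * x₀⁻¹ * y⁻¹ = x₀ := by
          have h6 : (y * x₀ * y⁻¹)⁻¹ = y * x₀⁻¹ * y⁻¹ := by group
          rw [← h6, h1, inv_inv]
        exact mul_inv_eq_iff_eq_mul.1 h5
      show y * y * x₀ = x₀ * (y * y)
      rw [mul_assoc, h3, ← mul_assoc, h4, mul_assoc]
    obtain ⟨j, hj⟩ := h.odd_order
    have h3 : y ^ (2 * j + 1) = 1 := by
      rw [← hj, hy, conj_pow, ← pow_mul, mul_comm, pow_mul, pow_orderOf_eq_one, one_pow, mul_one, mul_inv_cancel]
    apply hyne
    have h4 : y = (y * y) ^ (j + 1) := by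
      rw [← pow_two, ← pow_mul, show 2 * (j + 1) = (2 * j + 1) + 1 by ring, pow_succ, h3, one_mul]
    rw [h4]
    exact h2.pow_left _

end grp

end Cfsg.Agent.H472.MonAbs
end

-- part: H472/MonMix
section
/-!
# The Monster at the prime 3: no elements with the property `Q3` (helper472)

`x₀` of order 3 and fixed rank 0 in the centre of the Sylow 3-subgroup `T`, normalized by `z` and `x`.
* `x ∈ C(x₀)` : `MonOrb.exists_inv`.
* otherwise `MonAbs.Q3.exists_y` : `x₀` and `x₀^y` are in `Z(T) ∩ C(z)` and of fixed rank 0, so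
  `Λ/2Λ = C(x₀ x₀^y) + C(x₀ (x₀^y)⁻¹)`, but elements of order 3 of `Z(T)` have fixed rank at most 6.
-/

set_option autoImplicit false

namespace Cfsg.Agent.H472.MonMix

open Subgroup Cfsg
open Cfsg.Agent.MonsterU Cfsg.Agent.LThree Cfsg.Agent.LThreeMB
open Cfsg.Agent.MonsterU.Ch
open Cfsg.Agent.MonsterU.Lam2 (L2 IsType card_L2 add_self)
open Cfsg.Agent.MonsterX.KSide Cfsg.Agent.MonsterX.KLift
open Cfsg.Spor (Co1)
open Cfsg.Agent.H411.MThree (card_cent iso_of_rank)
open Cfsg.Agent.H472.MonAbs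

universe u

local instance : Fact (Nat.Prime 3) := ⟨Nat.prime_three⟩

section chart

variable {G : Type u} [Group G] [Finite G] {Q : Subgroup G} {z : G} {eta : G → L2}
  {pi : Subgroup.centralizer ({z} : Set G) →* Co1}

/-- Elements of order 3 whose centralizer has order divisible by `3²⁰` have fixed rank at most 6. -/
theorem rank_le [IsSimpleGroup G] (h : Chart Q z eta pi) (I : CoOne) {w : Subgroup.centralizer ({z} : Set G)}
    (hw : orderOf w = 3) (hcard : 3 ^ 20 ∣ Nat.card ↥(centralizer ({(w : G)} : Set G))) : fr (pi w) ≤ 2 ^ 6 := by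
  have hwo : orderOf (w : G) = 3 := by rw [Subgroup.orderOf_coe]; exact hw
  rcases I.ranks (pi w) (orderOf_pi h hw) with h1 | h1 | h1 | h1
  · rw [h1]; norm_num
  · rw [h1]
  · exfalso
    obtain ⟨e⟩ := (iso_of_rank h I hw).1 h1
    have h2 := card_cent hwo ((Nat.card_congr e.toEquiv).trans Cfsg.Agent.S1700.result.2)
    rw [h2] at hcard
    revert hcard
    norm_num
  · exfalso
    obtain ⟨e⟩ := (iso_of_rank h I hw).2 h1
    have h2 := card_cent hwo ((Nat.card_congr e.toEquiv).trans Cfsg.Agent.S1698.result.2)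
    rw [h2] at hcard
    revert hcard
    norm_num

/-- **Two elements of fixed rank 0 in the centre of a Sylow 3-subgroup.** -/
theorem false_of_two [IsSimpleGroup G] (h : Chart Q z eta pi) (I : CoOne) (hcard : 3 ^ 20 ∣ Nat.card G) (T : Sylow 3 G)
    {a b : Subgroup.centralizer ({z} : Set G)} (ha : orderOf a = 3) (hb : orderOf b = 3) (hfa : fr (pi a) = 1)
    (hfb : fr (pi b) = 1) (haT : ∀ t ∈ (T : Subgroup G), t * (a : G) = a * t)
    (hbT : ∀ t ∈ (T : Subgroup G), t * (b : G) = b * t) (hab : a * b = b * a) (h1 : a * b ≠ 1) (h2 : a * b⁻¹ ≠ 1) :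
    False := by
  have hfin : Finite L2 := Nat.finite_of_card_ne_zero (by rw [card_L2]; norm_num)
  have ha3 : a ^ 3 = 1 := by rw [← ha, pow_orderOf_eq_one]
  have hb3 : b ^ 3 = 1 := by rw [← hb, pow_orderOf_eq_one]
  have hc : Commute a b := hab
  have hTc : 3 ^ 20 ∣ Nat.card (T : Subgroup G) := by
    rw [T.card_eq_multiplicity]
    apply pow_dvd_pow
    exact (Nat.Prime.pow_dvd_iff_le_factorization Nat.prime_three Nat.card_pos.ne').1 hcard
  have key : ∀ w : Subgroup.centralizer ({z} : Set G), w ^ 3 = 1 → w ≠ 1 →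
      (∀ t ∈ (T : Subgroup G), t * (w : G) = w * t) → fr (pi w) ≤ 2 ^ 6 := by
    intro w hw hw1 hwT
    refine rank_le h I (orderOf_eq_prime hw hw1) (hTc.trans (card_dvd_of_le ?_))
    intro t ht
    exact mem_centralizer_singleton_iff.2 (hwT t ht)
  have k1 := key (a * b) (by rw [hc.mul_pow, ha3, hb3, one_mul]) h1 (fun t ht => by
    rw [coe_mul, ← mul_assoc, haT t ht, mul_assoc, hbT t ht, mul_assoc])
  have k2 := key (a * b⁻¹) (by rw [hc.inv_right.mul_pow, ha3, inv_pow, hb3, inv_one, one_mul]) h2 (fun t ht => by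
    have h3 : Commute t (b : G) := hbT t ht
    have h4 : Commute t (a : G) := haT t ht
    rw [coe_mul, coe_inv]
    exact (h4.mul_right h3.inv_right).eq)
  have h3 := card_le (V := L2) (a := pi a) (b := pi b) add_self (by rw [← map_mul, ← map_mul, hab])
    (sum_zero (by rw [← map_pow, ha3, map_one]) hfa) (sum_zero (by rw [← map_pow, hb3, map_one]) hfb)
  have h4 : Nat.card {v : L2 // (pi a * pi b) • v = v} ≤ 2 ^ 6 := by
    have h5 : Nat.card {v : L2 // (pi a * pi b) • v = v} = fr (pi (a * b)) := by rw [map_mul]; rfl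
    rw [h5]
    exact k1
  have h5 : Nat.card {v : L2 // (pi a * (pi b)⁻¹) • v = v} ≤ 2 ^ 6 := by
    have h6 : Nat.card {v : L2 // (pi a * (pi b)⁻¹) • v = v} = fr (pi (a * b⁻¹)) := by rw [map_mul, map_inv]; rfl
    rw [h6]
    exact k2
  rw [card_L2] at h3
  have h6 := h3.trans (Nat.mul_le_mul h4 h5)
  norm_num at h6

end chart

section lift

variable {G : Type u} {V P W : Type*} [Group G] [AddCommGroup V] [Module ℚ V]
  [DistribMulAction G V] [SMulCommClass G ℚ V] [Group P] [AddCommGroup W] [Module ℚ W]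
  {M : KS G V P W} {θ : leechLattice → P}

/-- **No element of the Monster has the property `Q3`.** -/
theorem false_of_lift [Finite G] [IsSimpleGroup G] (hna : center G = ⊥) (L : Lift M θ) (hc : KChart.Cent M) (I : CoOne)
    (h0 : ClassOf 1) (ht : TrNe M.z (KChart.pi hc)) (hpair : HasPair M.z (KChart.pi hc))
    (hex : ∀ x : G, orderOf x = 3 → (∃ v : G, v * v = 1 ∧ v ≠ 1 ∧ v * x = x * v) →
      ∃ g : G, (g * M.z * g⁻¹) * x = x * (g * M.z * g⁻¹))
    (hcard : 3 ^ 20 ∣ Nat.card G) (hcard' : ¬ 3 ^ 21 ∣ Nat.card G) {x : G} (hq : Q3 x) : False := by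
  have h := KChart.chart L hc
  obtain ⟨x₀, hx₀, hfr₀, hidx⟩ := Cfsg.Agent.H345.IRowM.exists_x₀ h I h0 ht hpair hex hcard
  have hx₀o : orderOf (x₀ : G) = 3 := by rw [Subgroup.orderOf_coe]; exact hx₀
  have hDat := Cfsg.Agent.BpSpor.MThree.dat_zero L hc ht hx₀ hfr₀ (I.suz _ (orderOf_pi h hx₀) hfr₀)
  have hne : centralizer ({(x₀ : G)} : Set G) ≠ ⊤ := by
    intro h1
    have h2 : (x₀ : G) ∈ center G := by
      rw [mem_center_iff]
      intro y
      exact mem_centralizer_singleton_iff.1 (h1 ▸ mem_top y)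
    rw [hna, mem_bot] at h2
    rw [h2, orderOf_one] at hx₀o
    norm_num at hx₀o
  set D := centralizer ({(x₀ : G)} : Set G) with hDdef
  have hz2 : orderOf M.z = 2 := LargeExtra.Base.orderOf_z h.large
  have hzx₀ : M.z * (x₀ : G) = x₀ * M.z := (mem_centralizer_singleton_iff.1 x₀.2).symm
  have hzD : M.z ∈ D := mem_centralizer_singleton_iff.2 hzx₀
  -- a Sylow 3-subgroup of `D` normalized by `z`
  have hiso : IsIsolatedInvolution (⟨M.z, hzD⟩ : D) := by
    refine ⟨by rw [Subgroup.orderOf_mk]; exact hz2, fun d hd => ?_⟩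
    apply Subtype.ext
    refine isolated h ht hx₀ hfr₀ (d : G) (mem_centralizer_singleton_iff.1 d.2) ?_
    exact (congrArg Subtype.val hd).symm
  obtain ⟨S, hS⟩ := Cfsg.Agent.SporadicStructure.OddProducts.exists_invariant_sylow hiso 3
  have hSp : IsPGroup 3 ↥((S : Subgroup D).map D.subtype) := S.isPGroup'.map _
  have hci : ¬ 3 ∣ ((S : Subgroup D).map D.subtype).index := by
    rw [← relIndex_mul_index (map_subtype_le (S : Subgroup D)), Nat.prime_three.dvd_mul, not_or]
    refine ⟨?_, hidx⟩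
    have h1 : ((S : Subgroup D).map D.subtype).relIndex D = (S : Subgroup D).index := by
      rw [relIndex, subgroupOf, comap_map_eq_self_of_injective D.subtype_injective]
    rw [h1]
    exact S.not_dvd_index
  let T : Sylow 3 G := hSp.toSylow hci
  have hTeq : (T : Subgroup G) = (S : Subgroup D).map D.subtype := rfl
  have hTD : (T : Subgroup G) ≤ D := map_subtype_le (S : Subgroup D)
  have hx₀T : ∀ t ∈ (T : Subgroup G), t * (x₀ : G) = x₀ * t := fun t ht =>
    mem_centralizer_singleton_iff.1 (hTD ht)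
  have hzT : M.z ∈ normalizer ((T : Subgroup G) : Set G) := by
    have h1 : ∀ v ∈ (T : Subgroup G), M.z * v * M.z⁻¹ ∈ (T : Subgroup G) := by
      rintro _ ⟨v, hv, rfl⟩
      exact ⟨_, (mem_normalizer_iff.1 hS v).1 hv, rfl⟩
    rw [mem_normalizer_iff]
    intro v
    refine ⟨h1 v, fun hv => ?_⟩
    have h2 := h1 _ hv
    have h3 : M.z * (M.z * v * M.z⁻¹) * M.z⁻¹ = v := by
      have h4 : M.z * M.z = 1 := h.large.z_sq
      calc M.z * (M.z * v * M.z⁻¹) * M.z⁻¹ = (M.z * M.z) * v * (M.z * M.z)⁻¹ := by group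
        _ = v := by rw [h4]; group
    rwa [h3] at h2
  -- `x₀ ∈ T`
  have hx₀mem : (x₀ : G) ∈ (T : Subgroup G) := by
    have h1 : IsPGroup 3 (zpowers (x₀ : G)) := IsPGroup.of_card (n := 1) (by rw [Nat.card_zpowers, hx₀o, pow_one])
    have h2 := h1.inf_normalizer_sylow T
    have h3 : (x₀ : G) ∈ zpowers (x₀ : G) ⊓ (T : Subgroup G) := by
      rw [← h2]
      have h4 : (x₀ : G) ∈ centralizer ((T : Subgroup G) : Set G) := mem_centralizer_iff.2 fun t ht => hx₀T t ht
      exact ⟨mem_zpowers _, centralizer_le_normalizer _ h4⟩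
    exact h3.2
  -- a conjugate of `x` normalizes `T`
  obtain ⟨T', hT'⟩ := hq.nrm
  obtain ⟨g, hg⟩ := MulAction.exists_smul_eq G T' T
  set x' := g * x * g⁻¹ with hx'
  have hq' : Q3 x' := hq.conj g
  have hxT : x' ∈ normalizer ((T : Subgroup G) : Set G) := by
    rw [← hg, Sylow.coe_subgroup_smul, mem_normalizer_iff]
    intro k
    rw [mem_pointwise_smul_iff_inv_smul_mem, mem_pointwise_smul_iff_inv_smul_mem]
    have h1 : ∀ k : G, (MulAut.conj g)⁻¹ • k = g⁻¹ * k * g := fun k => by
      rw [← map_inv, MulAut.smul_def, MulAut.conj_apply, inv_inv]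
    rw [h1, h1]
    have h2 : g⁻¹ * (x' * k * x'⁻¹) * g = x * (g⁻¹ * k * g) * x⁻¹ := by
      rw [hx']; group
    rw [h2]
    exact mem_normalizer_iff.1 hT' _
  by_cases hxD : x' * (x₀ : G) = x₀ * x'
  · -- `x' ∈ D`
    have hx'D : x' ∈ D := mem_centralizer_singleton_iff.2 hxD
    obtain ⟨s, hs2, hs1, hsy⟩ := MonOrb.exists_inv hDat (Cfsg.Agent.BpSpor.BThree.not_nine h hx₀ hfr₀)
      (fun h1 => hcard' (h1.trans (card_subgroup_dvd_card _)))
      (x₀ := (⟨(x₀ : G), mem_centralizer_singleton_iff.2 rfl⟩ : ↥(centralizer ({(x₀ : G)} : Set G))))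
      (by rw [Subgroup.orderOf_mk]; exact hx₀o)
      (fun d => Subtype.ext (mem_centralizer_singleton_iff.1 d.2))
      (y := ⟨x', hx'D⟩) (P := pCore 3 D) (hPn := Cfsg.Agent.Lib.Cores.pCore_normal 3)
      (Cfsg.Agent.Lib.Cores.pCore_isPGroup 3) (fun d => by
        obtain ⟨r, hr, hre⟩ := hq'.ind D hx'D hne (d : G) d.2
        have h1 : r = (⟨x', hx'D⟩ : D)⁻¹ * (d * ⟨x', hx'D⟩ * d⁻¹) := Subtype.ext hre
        rw [← h1]
        exact hr)
    exact hq'.odd s (congrArg Subtype.val hs2) (fun h1 => hs1 (Subtype.ext h1)) (congrArg Subtype.val hsy)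
  · -- mixed
    have hB : normalizer ((T : Subgroup G) : Set G) ≠ ⊤ := by
      intro h1
      have hTn : (T : Subgroup G).Normal := normalizer_eq_top_iff.1 h1
      rcases hTn.eq_bot_or_eq_top with h2 | h2
      · rw [h2, mem_bot] at hx₀mem
        rw [hx₀mem, orderOf_one] at hx₀o
        norm_num at hx₀o
      · have h3 : M.z ∈ (T : Subgroup G) := by rw [h2]; trivial
        obtain ⟨k, hk⟩ := T.isPGroup' ⟨M.z, h3⟩
        have h4 : M.z ^ 3 ^ k = 1 := congrArg Subtype.val hk
        have h5 := orderOf_dvd_of_pow_eq_one h4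
        rw [hz2] at h5
        have h6 := Nat.prime_two.dvd_of_dvd_pow h5
        norm_num at h6
    obtain ⟨y, hyz, hyT, hy1, hy2⟩ := hq'.exists_y T hxT hzT hB hz2 hx₀T hxD
    let c : centralizer ({M.z} : Set G) := ⟨y, mem_centralizer_singleton_iff.2 hyz⟩
    have hbT : ∀ t ∈ (T : Subgroup G), t * ((c * x₀ * c⁻¹ : centralizer ({M.z} : Set G)) : G) =
        ((c * x₀ * c⁻¹ : centralizer ({M.z} : Set G)) : G) * t := by
      intro t ht
      show t * (y * x₀ * y⁻¹) = y * x₀ * y⁻¹ * t
      have h1 : y⁻¹ * t * y ∈ (T : Subgroup G) := (mem_normalizer_iff''.1 hyT t).1 ht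
      have h2 := hx₀T _ h1
      calc t * (y * x₀ * y⁻¹) = y * ((y⁻¹ * t * y) * x₀) * y⁻¹ := by group
        _ = y * (x₀ * (y⁻¹ * t * y)) * y⁻¹ := by rw [h2]
        _ = y * x₀ * y⁻¹ * t := by group
    have hcomm : x₀ * (c * x₀ * c⁻¹) = (c * x₀ * c⁻¹) * x₀ := Subtype.ext (hbT _ hx₀mem)
    refine false_of_two h I hcard T hx₀ (b := c * x₀ * c⁻¹) ?_ hfr₀ ?_ hx₀T hbT hcomm ?_ ?_
    · rw [← hx₀]
      exact orderOf_injective (MulAut.conj c).toMonoidHom (MulAut.conj c).injective x₀
    · rw [map_mul, map_mul, map_inv, fr_conj]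
      exact hfr₀
    · intro h1
      apply hy2
      have h2 : (x₀ : G) * (y * x₀ * y⁻¹) = 1 := congrArg Subtype.val h1
      exact (inv_eq_of_mul_eq_one_right h2).symm
    · intro h1
      apply hy1
      have h2 : (x₀ : G) * (y * x₀ * y⁻¹)⁻¹ = 1 := congrArg Subtype.val h1
      exact (mul_inv_eq_one.1 h2).symm

end lift

/-! ### The model -/

open Cfsg.Agent.MonsterX Cfsg.Agent.MonsterX.InstData Cfsg.Agent.MonsterX.MainPack
open Cfsg.Agent.MonsterP Cfsg.Agent.MonsterN
open Cfsg.Agent.MonsterX.MainBasic Cfsg.Agent.MonsterX.MainSimple Cfsg.Agent.MonsterX.Model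

theorem not_model {x : ↥InstData.M.G} (hx : Q3 x) : False := by
  have := Row.finite_model
  have := Row.simple_model
  obtain ⟨A, B, F⟩ := LThreeM.SigRow.facts_model
  refine false_of_lift ?_ KDone.lft Row.cent CoOneFin.coOne LThreeCo1.Ranks.zero
    (KPair.trNe KDone.lft Row.cent (LThreeMBTr.traceNe KDone.lft LThreeMBTr.TensK.tens))
    (KPair.hasPair KDone.lft Row.cent Row.second COct.octPair) ?_ ?_ ?_ hx
  · exact Cfsg.Agent.H345.IRowM.center_eq_bot (by rw [F.card]; norm_num)
  · rintro x hx ⟨v, hv, hv1, hc⟩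
    exact LThreeM.FiRow.exists_z_of_comm (by rw [← hx, pow_orderOf_eq_one]) hv hv1 hc.symm
  · rw [F.card]
    norm_num
  · rw [F.card]
    norm_num

/-- **No element of the Monster has the property `Q3`.** -/
theorem not_q3 {x : Spor.Monster} (hx : Q3 x) : False := by
  obtain ⟨f⟩ := Cfsg.Agent.MonsterP.Equiv.equiv
  exact not_model (hx.map f)

end Cfsg.Agent.H472.MonMix
end

-- part: H472/MonWk
section
/-!
# The Monster at the prime 3: from the weak context to `Q3` (helper472)
-/

set_option autoImplicit false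
set_option linter.unusedSectionVars false

namespace Cfsg.Agent.H472.MonWk

open Subgroup Cfsg
open Cfsg.Agent.Lib.Cores
open Cfsg.Agent.H472.ComRed (cm nAut nAut_coe)
open Cfsg.Agent.H516 (wk_mem_normalizer odd_of_wk good_of_spor)
open Cfsg.Agent.H516.Zip
open Cfsg.Agent.H472.MonAbs
open Cfsg.Agent.SignalizersComponents.Components

universe u

variable {G : Type u} [Group G] [Finite G] {p : ℕ} {N : Subgroup G} {x : G}

/-- `x ∈ N` if every automorphism of `N` is inner. -/
theorem mem_of_out (h : Wk p N x) (ho : Nat.card (Out N) = 1) : x ∈ N := by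
  have hN := h.normal
  set α : MulAut N := MulAut.conjNormal x with hα
  have h1 : QuotientGroup.mk' (Inn N) α = 1 := by
    have h2 : Subsingleton (Out N) := (Nat.card_eq_one_iff_unique.1 ho).1
    exact Subsingleton.elim _ _
  have h2 : α ∈ Inn N := (QuotientGroup.eq_one_iff α).1 h1
  obtain ⟨g, hg⟩ := h2
  have h3 : (g : G)⁻¹ * x ∈ centralizer (N : Set G) := by
    rw [mem_centralizer_iff]
    intro s hs
    have h4 : MulAut.conj g ⟨s, hs⟩ = α ⟨s, hs⟩ := DFunLike.congr_fun hg _
    have h5 : (g : G) * s * (g : G)⁻¹ = x * s * x⁻¹ := by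
      have h6 := congrArg Subtype.val h4
      rw [hα, MulAut.conjNormal_apply] at h6
      exact h6
    have h7 : s = (g : G)⁻¹ * (x * s * x⁻¹) * g := by rw [← h5]; group
    calc s * ((g : G)⁻¹ * x) = ((g : G)⁻¹ * (x * s * x⁻¹) * g) * ((g : G)⁻¹ * x) := by rw [← h7]
      _ = (g : G)⁻¹ * x * s := by group
  rw [h.cent, mem_bot] at h3
  have h4 : x = g := by
    have := inv_mul_eq_one.1 h3
    exact this.symm
  rw [h4]
  exact g.2

theorem top_of_out (h : Wk p N x) (ho : Nat.card (Out N) = 1) : N = ⊤ := by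
  have h1 := h.gen
  rwa [sup_eq_left.2 ((zpowers_le).2 (mem_of_out h ho))] at h1

theorem q3_of_wk (h : Wk 3 N x) (hx : 3 ∣ orderOf x) (hM : Spor.IsoM N) : ∃ e : G ≃* Spor.Monster, Q3 (e x) := by
  have h3 : Fact (Nat.Prime 3) := ⟨Nat.prime_three⟩
  have hspor : IsSporadicGroup N := by
    refine Or.inr (Or.inr (Or.inr (Or.inr (Or.inr (Or.inr (Or.inr (Or.inr (Or.inr (Or.inr (Or.inr (Or.inr (Or.inr
      (Or.inr (Or.inr (Or.inr (Or.inr (Or.inr (Or.inr (Or.inr (Or.inr (Or.inr (Or.inr (Or.inr (Or.inr ?_))))))))))))))))))))))))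
    exact hM
  have hgood := good_of_spor (L := N) (Or.inl hspor)
  obtain ⟨f⟩ := hM
  have hout : Nat.card (Out N) = 1 := by
    rw [H55.OutGen.card_out_congr f]
    exact Cfsg.Agent.S2085.result
  have htop := top_of_out h hout
  let e : G ≃* Spor.Monster := (Subgroup.topEquiv.symm.trans (MulEquiv.subgroupCongr htop.symm)).trans f
  refine ⟨e, Q3.map e ?_⟩
  refine ⟨h.ne, fun D hxD hD d hd => cm_mem_oc h hxD hD hd, ?_, ?_⟩
  · intro v hv hv1 hvx
    have hodd := odd_of_wk h Nat.prime_three (by norm_num) hgood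
    have hvN : v ∈ N := by rw [htop]; trivial
    have h1 : (⟨v, hvN⟩ : N) ∈ fixedSubgroup (nAut (wk_mem_normalizer h)) := by
      show nAut (wk_mem_normalizer h) ⟨v, hvN⟩ = ⟨v, hvN⟩
      apply Subtype.ext
      rw [nAut_coe]
      show x⁻¹ * v * x = v
      rw [mul_assoc, hvx, inv_mul_cancel_left]
    have h2 := Subgroup.orderOf_dvd_natCard _ h1
    have h4 : orderOf (⟨v, hvN⟩ : N) = 2 := by
      have h2F : Fact (Nat.Prime 2) := ⟨Nat.prime_two⟩
      refine orderOf_eq_prime ?_ ?_
      · apply Subtype.ext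
        show v ^ 2 = 1
        rw [pow_two, hv]
      · intro h5
        exact hv1 (congrArg Subtype.val h5)
    rw [h4] at h2
    exact (Nat.not_even_iff_odd.2 hodd) (even_iff_two_dvd.2 h2)
  · obtain ⟨T, hT, hxT⟩ := exists_mx_norm h hx
    let T' : Sylow 3 G :=
      { toSubgroup := T
        isPGroup' := hT.pg
        is_maximal' := fun {Q} hQ hTQ => le_antisymm (hT.max Q le_top hQ hTQ) hTQ }
    exact ⟨T', hxT⟩

end Cfsg.Agent.H472.MonWk
end

-- part: H472/MonThree
section
/-!
# The Monster at the prime 3, weak form (helper472)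

`row` : the Monster is not the simple group of a weak minimal context (`Zip.Wk`, S4095, S4094, S3842) at `p = 3`.
-/

set_option autoImplicit false

namespace Cfsg.Agent.H472.MonThree

open Cfsg
open Cfsg.Agent.H516.Zip

universe u

/-- **The Monster at the prime 3.** -/
theorem row {G : Type u} [Group G] [Finite G] {N : Subgroup G} {x : G} (h : Wk 3 N x) (hx : 3 ∣ orderOf x)
    (hM : Spor.IsoM N) : False := by
  obtain ⟨e, he⟩ := MonWk.q3_of_wk h hx hM
  exact MonMix.not_q3 he

end Cfsg.Agent.H472.MonThree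
end

-- part: H516/MinSpor
section
/-!
# The sporadic rows of S4094: assembly (helper516)

* `false_of_wk` : `Wk p N x`, `p ∣ o(x)`, `N` sporadic or the Tits group: impossible;
* `false_of_min` : the same for `MinCtx p N x`.
-/

set_option autoImplicit false

namespace Cfsg.Agent.H516.MinSpor

open Subgroup Cfsg
open Cfsg.Agent.H472.ComRed (MinCtx)
open Cfsg.Agent.H516.Zip

universe u

variable {G : Type u} [Group G] [Finite G] {N : Subgroup G} {x : G} {p : ℕ}

/-- **The rows of the simple group `N` from `Com p N`.** -/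
theorem false_of_com (h : Wk p N x) (hC : H705.Com p N) : False := by
  obtain ⟨s, h1, h2⟩ := hC _ (ne_of_wk h)
  rcases bad_of_wk h s with h3 | h3
  · exact h1 h3
  · exact h2 h3

/-- the odd primes -/
theorem false_of_odd (hK : ∀ (S : Type u) [Group S] [Finite S] [IsSimpleGroup S], IsKnownSimple' S)
    (h : Wk p N x) (hp : p.Prime) (hp2 : p ≠ 2) (hd : p ∣ orderOf x)
    (hS : IsSporadicGroup N ∨ Lie.IsoTits N) : False := by
  by_cases h3 : p = 3 → ¬ Spor.IsoM N
  · exact false_of_com h (com_odd hK hS hp hp2 h3)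
  · push Not at h3
    obtain ⟨rfl, h3⟩ := h3
    exact H472.MonThree.row h hd h3

/-- **The sporadic rows and the Tits group of S4094, weak form.** -/
theorem false_of_wk (hK : ∀ (S : Type u) [Group S] [Finite S] [IsSimpleGroup S], IsKnownSimple' S)
    (h : Wk p N x) (hp : p.Prime) (hd : p ∣ orderOf x) (hS : IsSporadicGroup N ∨ Lie.IsoTits N) : False := by
  by_cases hp2 : p = 2
  · subst hp2
    exact TwoSpor.false_of_wk h hd hS
  · exact false_of_odd hK h hp hp2 hd hS

/-- **The sporadic rows and the Tits group of S4094.** -/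
theorem false_of_min (hK : ∀ (S : Type u) [Group S] [Finite S] [IsSimpleGroup S], IsKnownSimple' S)
    (h : MinCtx p N x) (hp : p.Prime) (hd : p ∣ orderOf x) (hS : IsSporadicGroup N ∨ Lie.IsoTits N) : False :=
  false_of_wk hK (wk_of_min h) hp hd hS

end Cfsg.Agent.H516.MinSpor
end

-- part: H516/FinSpec
section
/-!
# The last input of S4094, S3842 and the rows of S4096 (helper516)
-/

set_option autoImplicit false

namespace Cfsg.Agent.H516.FinSpec

open Cfsg
open Cfsg.Agent.H472.ComRed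
open Cfsg.Agent.H472.Fin

universe u

theorem rowSpec : RowSpec.{u} := fun _ _ _ _ _ _ hp h hd hS => MinSpor.false_of_min known h hp hd hS

theorem no_min (p : ℕ) [Fact p.Prime] : NoMin.{u} p := noMin zstar known rowLieAll rowSpec

theorem no_minSix {r s : ℕ} (hr : r.Prime) (hs : s.Prime) (hrs : r ≠ s) (H : Type u) [Group H] [Finite H]
    (K : Subgroup H) (y : H) (h : MinSix r s K y) : False :=
  false_of_minSix ugt known rowLie (rowSpor known) (rowHe known) (rowTits known) hr hs hrs h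

end Cfsg.Agent.H516.FinSpec
end
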